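import Groth.Prelude.Def_Cyc
import Mathlib.AlgebraicGeometry.AffineTransitionLimit
import Mathlib.RingTheory.HopkinsLevitzki

/-! Cycles on a limit of schemes with affine flat transition maps. -/

set_option autoImplicit false
set_option linter.style.haveILetI false
set_option backward.isDefEq.respectTransparency false
set_option backward.isDefEq.respectTransparency.types false

universe u

open AlgebraicGeometry CategoryTheory CategoryTheory.Limits TopologicalSpace

namespace Groth.Agent.H9Cyc.Lim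

variable {X Y : Scheme.{u}}

/-- `x` is a generic point of its fibre. -/
def MinInFibre (f : X ⟶ Y) (x : X) : Prop := ∀ w : X, f w = f x → w ⤳ x → w = x

theorem exists_minInFibre (f : X ⟶ Y) (x : X) : ∃ x₀ : X, f x₀ = f x ∧ x₀ ⤳ x ∧ MinInFibre f x₀ := by
  let a := f.asFiber x
  obtain ⟨C, hC, hle⟩ := exists_mem_irreducibleComponents_subset_of_isIrreducible
    (closure {a} : Set _) isIrreducible_singleton.closure
  have hCc : IsClosed C := isClosed_of_mem_irreducibleComponents C hC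
  let η := (hC.1).genericPoint
  have hη : IsGenericPoint η C := by
    have := (hC.1).isGenericPoint_genericPoint_closure
    rwa [hCc.closure_eq] at this
  have hmem : ∀ b, f (f.fiberι (f x) b) = f x := fun b =>
    (f.range_fiberι (f x)).le ⟨b, rfl⟩
  refine ⟨f.fiberι (f x) η, hmem η, ?_, fun w hw hspec => ?_⟩
  · have := (hη.specializes (hle (subset_closure rfl))).map (f.fiberι (f x)).continuous
    rwa [f.fiberι_asFiber x] at this
  · obtain ⟨b, rfl⟩ : w ∈ Set.range (f.fiberι (f x)) := by rw [f.range_fiberι]; exact hw.trans (hmem η)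
    have hb : b ⤳ η := (f.fiberι (f x)).isEmbedding.isInducing.specializes_iff.1 hspec
    have hCb : C ⊆ closure {b} := by
      rw [← hη.def]
      exact closure_minimal (by simpa using hb.mem_closure) isClosed_closure
    have hbC : b ∈ C := by
      have h := hC.2 (isIrreducible_singleton.closure) hCb
      exact h (subset_closure rfl)
    rw [((hη.specializes hbC).antisymm hb).eq]

theorem length_fibre_of_min (f : X ⟶ Y) [IsLocallyNoetherian X] {x : X} (hx : MinInFibre f x) :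
    (Module.length (X.presheaf.stalk x) (X.presheaf.stalk x ⧸ Ideal.map (f.stalkMap x).hom
      (IsLocalRing.maximalIdeal (Y.presheaf.stalk (f x))))).toNat ≠ 0 := by
  set R := X.presheaf.stalk x
  set J := Ideal.map (f.stalkMap x).hom (IsLocalRing.maximalIdeal (Y.presheaf.stalk (f x)))
  have hprime : ∀ P : Ideal R, P.IsPrime → J ≤ P → P = IsLocalRing.maximalIdeal R := by
    intro P hP hle
    let q : Spec R := ⟨P, hP⟩
    have hcl : Spec.map (f.stalkMap x) q = IsLocalRing.closedPoint (Y.presheaf.stalk (f x)) := by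
      apply PrimeSpectrum.ext
      refine ((IsLocalRing.maximalIdeal.isMaximal _).eq_of_le ?_ ?_).symm
      · exact (Ideal.IsPrime.comap _).ne_top
      · exact Ideal.map_le_iff_le_comap.1 hle
    have hfw : f (X.fromSpecStalk x q) = f x := by
      rw [← Scheme.Hom.comp_apply, ← Scheme.SpecMap_stalkMap_fromSpecStalk, Scheme.Hom.comp_apply, hcl,
        Scheme.fromSpecStalk_closedPoint]
    have hw : X.fromSpecStalk x q ⤳ x := by
      have : X.fromSpecStalk x q ∈ Set.range (X.fromSpecStalk x) := ⟨q, rfl⟩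
      rwa [Scheme.range_fromSpecStalk] at this
    have := (X.fromSpecStalk x).isEmbedding.injective
      ((hx _ hfw hw).trans (Scheme.fromSpecStalk_closedPoint (x := x)).symm)
    exact congrArg PrimeSpectrum.asIdeal this
  have hJ : J ≤ IsLocalRing.maximalIdeal R :=
    ((((IsLocalRing.local_hom_TFAE (f.stalkMap x).hom).out 0 2 rfl rfl).1) (inferInstanceAs (IsLocalHom (f.stalkMap x).hom)))
  haveI : Nontrivial (R ⧸ J) :=
    Ideal.Quotient.nontrivial_iff.2 (ne_top_of_le_ne_top (IsLocalRing.maximalIdeal.isMaximal R).ne_top hJ)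
  haveI : Ring.KrullDimLE 0 (R ⧸ J) := Ring.KrullDimLE.mk₀ fun P hP => by
    haveI : (P.comap (Ideal.Quotient.mk J)).IsMaximal := by
      rw [hprime _ (Ideal.IsPrime.comap _) (fun a ha => by
        rw [Ideal.mem_comap, Ideal.Quotient.eq_zero_iff_mem.2 ha]; exact P.zero_mem)]
      infer_instance
    have e := Ideal.map_comap_of_surjective (Ideal.Quotient.mk J) Ideal.Quotient.mk_surjective P
    rcases Ideal.map_eq_top_or_isMaximal_of_surjective (Ideal.Quotient.mk J) Ideal.Quotient.mk_surjective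
      ‹(P.comap (Ideal.Quotient.mk J)).IsMaximal› with h | h
    · exact absurd (e ▸ h) hP.ne_top
    · exact e ▸ h
  haveI : IsArtinianRing (R ⧸ J) := isArtinianRing_iff_isNoetherianRing_krullDimLE_zero.2 ⟨inferInstance, inferInstance⟩
  rw [Module.length_eq_of_surjective (S := R) (R := R ⧸ J) (M := R ⧸ J) Ideal.Quotient.mk_surjective]
  intro h0
  rcases ENat.toNat_eq_zero.1 h0 with h | h
  · exact not_subsingleton (R ⧸ J) (Module.length_eq_zero_iff.1 h)
  · exact Module.length_ne_top h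

theorem length_quot_maximal (x : X) :
    Module.length (X.presheaf.stalk x) (X.presheaf.stalk x ⧸ IsLocalRing.maximalIdeal (X.presheaf.stalk x)) = 1 :=
  Module.length_eq_one_iff.2 (isSimpleModule_iff_isCoatom.2 (IsLocalRing.maximalIdeal.isMaximal _).out)

theorem minInFibre_of_delta (f : X ⟶ Y) {δ : X → ℤ} {δY : Y → ℤ} (hd : Cyc.IsDimFun X δ)
    (h : ∀ x, MinInFibre f x → δ x = δY (f x)) {x : X} (hx : δ x = δY (f x)) : MinInFibre f x := by
  obtain ⟨x₀, h1, h2, h3⟩ := exists_minInFibre f x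
  by_contra hc
  have hne : x₀ ≠ x := fun e => hc (e ▸ h3)
  have := (hd x₀ x h2 hne).1
  rw [h x₀ h3, h1] at this
  omega

/-- The maximal ideal of the image generates that of the point. -/
def Good (f : X ⟶ Y) (x : X) : Prop :=
  Ideal.map (f.stalkMap x).hom (IsLocalRing.maximalIdeal (Y.presheaf.stalk (f x))) =
    IsLocalRing.maximalIdeal (X.presheaf.stalk x)

theorem map_maximal_le (f : X ⟶ Y) (x : X) :
    Ideal.map (f.stalkMap x).hom (IsLocalRing.maximalIdeal (Y.presheaf.stalk (f x))) ≤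
      IsLocalRing.maximalIdeal (X.presheaf.stalk x) :=
  ((IsLocalRing.local_hom_TFAE (f.stalkMap x).hom).out 0 2 rfl rfl).1 (inferInstanceAs (IsLocalHom (f.stalkMap x).hom))

section

variable {I : Type u} [Category.{u} I] [IsCofiltered I] (D : I ⥤ Scheme.{u}) (c : Cone D) (hc : IsLimit c)
  [∀ {i j} (f : i ⟶ j), IsAffineHom (D.map f)]

include hc in
theorem exists_preimage_point {i : I} (z : D.obj i) (h : ∀ (j : I) (f : j ⟶ i), z ∈ Set.range (D.map f)) :
    ∃ x : c.pt, c.π.app i x = z := by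
  let r := (D.obj i).fromSpecResidueField z
  let F := Over.post D ⋙ Over.pullback r ⋙ Over.forget _
  have (j : Over i) : IsAffine (F.obj j) :=
    have : IsAffineHom (pullback.snd (D.map j.hom) r) := MorphismProperty.pullback_snd _ _ inferInstance
    isAffine_of_isAffineHom (pullback.snd (D.map j.hom) r)
  have (j : Over i) : Nonempty (F.obj j) := by
    obtain ⟨w, hw⟩ := h j.left j.hom
    have hz : z ∈ Set.range r := by rw [Scheme.range_fromSpecResidueField]; rfl
    obtain ⟨a, ha⟩ := hz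
    obtain ⟨q, -⟩ := Scheme.Pullback.exists_preimage_pullback (f := D.map j.hom) (g := r) w a (hw.trans ha.symm)
    exact ⟨q⟩
  let e : F ⟶ (F ⋙ Scheme.Γ.rightOp) ⋙ Scheme.Spec := Functor.whiskerLeft F ΓSpec.adjunction.unit
  have (j : Over i) : IsIso (e.app j) := IsAffine.affine
  have : IsIso e := NatIso.isIso_of_isIso_app e
  let c' : LimitCone F := ⟨_, (IsLimit.postcomposeInvEquiv (asIso e) _).symm
    (isLimitOfPreserves Scheme.Spec (limit.isLimit (F ⋙ Scheme.Γ.rightOp)))⟩
  have : ∀ {a b : Over i} (f : a ⟶ b), IsAffineHom (F.map f) := fun f => inferInstance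
  obtain ⟨s⟩ := Scheme.nonempty_of_isLimit F c'.1 c'.2
  let α : F ⟶ Over.forget _ ⋙ D := Functor.whiskerRight
    (Functor.whiskerLeft (Over.post D) (Over.mapPullbackAdj r).counit) (Over.forget _)
  let L := ((Functor.Initial.isLimitWhiskerEquiv (Over.forget i) c).symm hc)
  refine ⟨L.lift ((Cone.postcompose α).obj c'.1) s, ?_⟩
  let i₀ : Over i := Over.mk (𝟙 i)
  have hL := L.fac ((Cone.postcompose α).obj c'.1) i₀
  have hcomm : pullback.fst (D.map i₀.hom) r = pullback.snd (D.map i₀.hom) r ≫ r := by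
    have := pullback.condition (f := D.map i₀.hom) (g := r)
    simpa [i₀] using this
  have h1 : c.π.app i (L.lift ((Cone.postcompose α).obj c'.1) s) =
      pullback.fst (D.map i₀.hom) r (c'.1.π.app i₀ s) := congr(($hL).base s)
  rw [h1, hcomm, Scheme.Hom.comp_apply]
  have : r (pullback.snd (D.map i₀.hom) r (c'.1.π.app i₀ s)) ∈ Set.range r := ⟨_, rfl⟩
  rwa [Scheme.range_fromSpecResidueField, Set.mem_singleton_iff] at this

include hc in
theorem exists_section {i : I} (V : (D.obj i).Opens) (hV : IsAffineOpen V) (b : Γ(c.pt, c.π.app i ⁻¹ᵁ V)) :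
    ∃ (j : I) (f : j ⟶ i) (h : c.π.app i ⁻¹ᵁ V ≤ c.π.app j ⁻¹ᵁ (D.map f ⁻¹ᵁ V))
      (t : Γ(D.obj j, D.map f ⁻¹ᵁ V)),
      (c.π.app j).appLE (D.map f ⁻¹ᵁ V) (c.π.app i ⁻¹ᵁ V) h t = b := by
  have (j : _) : IsAffine ((opensDiagram D i V).obj j) := hV.preimage _
  obtain ⟨j, s, hs⟩ := exists_appTop_π_eq_of_isAffine_of_isLimit (opensDiagram D i V) (opensCone D c i V)
    (isLimitOpensCone D c hc i V) ((c.π.app i ⁻¹ᵁ V).topIso.inv b)
  obtain ⟨s, rfl⟩ := (D.map j.hom ⁻¹ᵁ V).topIso.symm.commRingCatIsoToRingEquiv.surjective s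
  have h : c.π.app j.left ⁻¹ᵁ D.map j.hom ⁻¹ᵁ V = c.π.app i ⁻¹ᵁ V := congr($(c.w j.hom) ⁻¹ᵁ V)
  refine ⟨j.left, j.hom, h.ge, s, ?_⟩
  symm
  convert!
    show b = ((Scheme.Opens.topIso _).inv ≫ ((opensCone D c i V).π.app j).appTop ≫ (Scheme.Opens.topIso _).hom) s from
      (c.π.app i ⁻¹ᵁ V).topIso.commRingCatIsoToRingEquiv.symm_apply_eq.mp hs.symm using 3
  simp [Scheme.Hom.app_eq_appLE, Scheme.Hom.resLE_appLE]

include hc in
theorem exists_good [IsLocallyNoetherian c.pt] (i : I) (x : c.pt) : ∃ (j : I) (_ : j ⟶ i), Good (X := c.pt) (c.π.app j) x := by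
  classical
  let π : ∀ j : I, c.pt ⟶ D.obj j := fun j => c.π.app j
  have hw : ∀ {a b : I} (φ : a ⟶ b), π a ≫ D.map φ = π b := fun φ => c.w φ
  obtain ⟨V, hV, hxV, -⟩ := exists_isAffineOpen_mem_and_subset (x := π i x) (U := ⊤) trivial
  haveI : IsAffineHom (π i) := isAffineHom_π_app D c hc i
  let W : c.pt.Opens := π i ⁻¹ᵁ V
  have hW : IsAffineOpen W := hV.preimage _
  haveI : IsNoetherianRing Γ(c.pt, W) := IsLocallyNoetherian.component_noetherian ⟨W, hW⟩
  let p := hW.primeIdealOf ⟨x, hxV⟩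
  obtain ⟨s, hs⟩ := (IsNoetherian.noetherian p.asIdeal : p.asIdeal.FG)
  choose j f h t ht using fun b : (s : Set Γ(c.pt, W)) => exists_section D c hc V hV b.1
  obtain ⟨k, fk, hcomm⟩ : ∃ (k : I) (fk : k ⟶ i) (g : ∀ b, k ⟶ j b), ∀ b, g b ≫ f b = fk := by
    obtain ⟨k, hk⟩ := IsCofiltered.inf_exists (insert i (Finset.univ.image j))
      (Finset.univ.image fun b : (s : Set Γ(c.pt, W)) => ⟨j b, i, by simp, by simp, f b⟩)
    obtain ⟨T, hT⟩ := hk
    exact ⟨k, T (by simp), fun b => T (by simp), fun b => hT (by simp) (by simp) (Finset.mem_image.2 ⟨b, by simp, rfl⟩)⟩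
  obtain ⟨g, hg⟩ := hcomm
  refine ⟨k, fk, le_antisymm (map_maximal_le _ _) ?_⟩
  letI : Algebra Γ(c.pt, W) (c.pt.presheaf.stalk x) := (c.pt.presheaf.germ W x hxV).hom.toAlgebra
  haveI : IsLocalization.AtPrime (c.pt.presheaf.stalk x) p.asIdeal := hW.isLocalization_stalk ⟨x, hxV⟩
  rw [← IsLocalization.AtPrime.map_eq_maximalIdeal p.asIdeal, ← hs, Ideal.map_span, Ideal.span_le]
  rintro _ ⟨b, hb, rfl⟩
  let b' : (s : Set Γ(c.pt, W)) := ⟨b, hb⟩
  have hxk : π (j b') x ∈ D.map (f b') ⁻¹ᵁ V := h b' hxV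
  let t' := (D.map (g b')).app _ (t b')
  have hxk' : π k x ∈ D.map (g b') ⁻¹ᵁ (D.map (f b') ⁻¹ᵁ V) := by
    show D.map (g b') (π k x) ∈ D.map (f b') ⁻¹ᵁ V
    rw [← Scheme.Hom.comp_apply, hw]
    exact hxk
  have key : (π k).stalkMap x ((D.obj k).presheaf.germ _ _ hxk' t') =
      c.pt.presheaf.germ W x hxV b := by
    have hle : W ≤ π k ⁻¹ᵁ (D.map (g b') ⁻¹ᵁ (D.map (f b') ⁻¹ᵁ V)) := by
      rw [← Scheme.Hom.comp_preimage, hw]; exact h b'
    have e1 : (π k).stalkMap x ((D.obj k).presheaf.germ _ _ hxk' t') =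
        c.pt.presheaf.germ W x hxV ((π k).appLE _ W hle t') := by
      rw [Scheme.Hom.germ_stalkMap_apply, Scheme.Hom.appLE, CommRingCat.comp_apply, TopCat.Presheaf.germ_res_apply]
    rw [e1]
    congr 1
    have e2 : (D.map (g b')).app _ ≫ (π k).appLE _ W hle =
        (π (j b')).appLE _ W (h b') := by
      rw [Scheme.Hom.app_eq_appLE, Scheme.Hom.appLE_comp_appLE]
      congr 1
      exact hw (g b')
    exact (congr(($e2).hom (t b'))).trans (ht b')
  show c.pt.presheaf.germ W x hxV b ∈ _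
  rw [← key]
  refine Ideal.mem_map_of_mem _ ((IsLocalRing.mem_maximalIdeal _).2 fun hu => ?_)
  have hu' := hu.map ((π k).stalkMap x).hom
  have hmem : c.pt.presheaf.germ W x hxV b ∈ IsLocalRing.maximalIdeal (c.pt.presheaf.stalk x) := by
    rw [← IsLocalization.AtPrime.map_eq_maximalIdeal p.asIdeal]
    refine Ideal.mem_map_of_mem (algebraMap Γ(c.pt, W) (c.pt.presheaf.stalk x)) ?_
    rw [← hs]
    exact Ideal.subset_span hb
  exact (IsLocalRing.mem_maximalIdeal _).1 hmem (key ▸ hu')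

theorem good_of_comp {X Y Z : Scheme.{u}} {f : X ⟶ Z} (g : X ⟶ Y) (h : Y ⟶ Z) (e : g ≫ h = f) {x : X}
    (hf : Good f x) : Good g x := by
  subst e
  refine le_antisymm (map_maximal_le g x) ?_
  rw [← hf, Scheme.Hom.stalkMap_comp, CommRingCat.hom_comp, ← Ideal.map_map]
  exact Ideal.map_mono (map_maximal_le h (g x))

include hc in
theorem exists_level [IsLocallyNoetherian c.pt] [∀ i, CompactSpace (D.obj i)] (x : c.pt) :
    ∃ i : I, ∀ (j : I) (_ : j ⟶ i), Good (c.π.app j) x ∧
      ∀ w, c.π.app j w = c.π.app j x → x ⤳ w := by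
  haveI : CompactSpace c.pt := Scheme.compactSpace_of_isLimit D c hc
  haveI : IsNoetherian c.pt := ⟨⟩
  let U : c.pt.Opens := ⟨(closure {x})ᶜ, isClosed_closure.isOpen_compl⟩
  obtain ⟨i₁, V, -, hV⟩ := exists_preimage_eq D c hc U (NoetherianSpace.isCompact _)
  obtain ⟨i₂, f₂, hgood⟩ := exists_good D c hc i₁ x
  refine ⟨i₂, fun j g => ⟨good_of_comp (c.π.app j) (D.map g) (c.w g) hgood, fun w hw => ?_⟩⟩
  rw [specializes_iff_mem_closure]
  by_contra hwx
  have h1 : c.π.app i₁ w ∈ V := by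
    show w ∈ c.π.app i₁ ⁻¹ᵁ V
    rw [hV]; exact hwx
  have h2 : c.π.app i₁ x ∉ V := by
    intro h
    have : x ∈ U := hV ▸ h
    exact this (subset_closure rfl)
  refine h2 ?_
  rw [← c.w (g ≫ f₂), Scheme.Hom.comp_apply] at h1 ⊢
  exact (congrArg (· ∈ V) (congrArg (D.map (g ≫ f₂)) hw)).mp h1

end

end Groth.Agent.H9Cyc.Lim
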