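import Groth.Agent.AssLib.NoEmbTensor
import Groth.Agent.GeomField.Algebra
import Mathlib.RingTheory.LocalRing.Length
import Mathlib.RingTheory.Spectrum.Prime.Homeomorph
import Mathlib.FieldTheory.SeparablyGenerated
import Mathlib.RingTheory.Length

/-! The tensor product of a finitely generated field extension with a purely inseparable one
is local Artinian of length a power of the characteristic. -/

set_option autoImplicit false
set_option linter.style.haveILetI false
set_option backward.isDefEq.respectTransparency false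
set_option backward.isDefEq.respectTransparency.types false

universe u

open TensorProduct

namespace Groth.Agent.H9Cyc

variable (k K k' : Type u) [Field k] [Field K] [Field k'] [Algebra k K] [Algebra k k']
  [IsPurelyInseparable k k']

theorem subsingleton_spec : Subsingleton (PrimeSpectrum (K ⊗[k] k')) :=
  (PrimeSpectrum.isHomeomorph_comap_of_isPurelyInseparable k k' K).bijective.injective.subsingleton

theorem isLocalRing_tensor : IsLocalRing (K ⊗[k] k') := by
  haveI := subsingleton_spec k K k'
  refine IsLocalRing.of_unique_max_ideal ?_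
  obtain ⟨m, hm⟩ := Ideal.exists_maximal (K ⊗[k] k')
  exact ⟨m, hm, fun m' hm' => congrArg PrimeSpectrum.asIdeal
    (Subsingleton.elim (⟨m', hm'.isPrime⟩ : PrimeSpectrum _) ⟨m, hm.isPrime⟩)⟩

theorem isField_tensor [IsReduced (K ⊗[k] k')] : IsField (K ⊗[k] k') := by
  haveI := subsingleton_spec k K k'
  haveI := isLocalRing_tensor k K k'
  refine (IsLocalRing.isField_iff_maximalIdeal_eq).mpr ?_
  refine le_bot_iff.mp ((le_sInf fun J hJ => ?_).trans
    ((nilradical_eq_sInf (K ⊗[k] k')).symm.trans (nilradical_eq_zero _)).le)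
  exact (congrArg PrimeSpectrum.asIdeal
    (Subsingleton.elim (⟨J, hJ⟩ : PrimeSpectrum _) (IsLocalRing.closedPoint _))).ge

theorem length_dvd_finrank {L E F : Type u} [Field L] [Field E] [Field F] [Algebra L E]
    [Algebra L F] [Module.Finite L E] [IsLocalRing (F ⊗[L] E)] :
    ∃ n d : ℕ, Module.length (F ⊗[L] E) (F ⊗[L] E) = n ∧ n * d = Module.finrank L E := by
  haveI : IsLocalHom (algebraMap F (F ⊗[L] E)) := ⟨fun x hx => isUnit_iff_ne_zero.mpr fun h => by
    subst h; rw [map_zero] at hx; exact not_isUnit_zero hx⟩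
  have key := IsLocalRing.length_restrictScalars F (F ⊗[L] E) (F ⊗[L] E)
  rw [Module.length_eq_finrank F (F ⊗[L] E), Module.finrank_baseChange] at key
  revert key
  generalize Module.length (F ⊗[L] E) (F ⊗[L] E) = a
  generalize Module.length (IsLocalRing.ResidueField F) (IsLocalRing.ResidueField (F ⊗[L] E)) = b
  intro key
  have hpos : Module.finrank L E ≠ 0 := Module.finrank_pos.ne'
  cases a with
  | top =>
    rcases eq_or_ne b 0 with rfl | hb
    · simp [hpos] at key
    · simp [ENat.top_mul hb] at key
  | coe n =>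
    cases b with
    | top =>
      rcases eq_or_ne n 0 with rfl | hn
      · simp [hpos] at key
      · rw [ENat.mul_top (by exact_mod_cast hn)] at key
        exact absurd key (ENat.natCast_ne_top _)
    | coe d => exact ⟨n, d, rfl, by exact_mod_cast key.symm⟩

theorem length_eq_of_ringEquiv {A B : Type u} [CommRing A] [CommRing B] (e : A ≃+* B) :
    Module.length A A = Module.length B B := by
  letI := e.toRingHom.toAlgebra
  have : A ≃ₗ[A] B := { e.toAddEquiv with map_smul' := fun c x => map_mul e c x }
  rw [this.length_eq]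
  exact Module.length_eq_of_surjective e.surjective

set_option maxHeartbeats 1000000 in
set_option synthInstance.maxHeartbeats 400000 in
theorem exists_length_eq_pow (p : ℕ) [Fact p.Prime] [CharP k p] [Algebra.EssFiniteType k K] :
    ∃ e : ℕ, Module.length (K ⊗[k] k') (K ⊗[k] k') = (p : ℕ∞) ^ e := by
  haveI : ExpChar k p := ExpChar.prime Fact.out
  obtain ⟨t, ht⟩ := exists_isTranscendenceBasis k K
  let P := IntermediateField.adjoin k (Set.range (Subtype.val : t → K))
  haveI : Algebra.IsAlgebraic P K := ht.isAlgebraic_field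
  haveI : Algebra.EssFiniteType P K := Algebra.EssFiniteType.of_comp k P K
  haveI : Module.Finite P K := Algebra.finite_of_essFiniteType_of_isAlgebraic
  haveI : IsDomain (P ⊗[k] k') := AssLib.isDomain_tensor_adjoin (K := k') ht.1
  let Ks := separableClosure P K
  haveI : IsScalarTower k Ks K := IsScalarTower.of_algebraMap_eq fun _ => rfl
  haveI : IsReduced (Ks ⊗[k] k') := GeomField.isReduced_tensor_of_separable_tower k' P Ks
  letI : Field (Ks ⊗[k] k') := (isField_tensor k Ks k').toField
  let e : (Ks ⊗[k] k') ⊗[Ks] K ≃+* K ⊗[k] k' :=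
    (Algebra.TensorProduct.comm Ks (Ks ⊗[k] k') K).toRingEquiv.trans
      (Algebra.TensorProduct.cancelBaseChange k Ks K K k').toRingEquiv
  haveI hA : IsLocalRing ((Ks ⊗[k] k') ⊗[Ks] K) := by
    haveI := isLocalRing_tensor k K k'
    exact e.symm.isLocalRing
  obtain ⟨n, d, hn, hnd⟩ := length_dvd_finrank (L := Ks) (E := K) (F := Ks ⊗[k] k')
  haveI : ExpChar Ks p := expChar_of_injective_algebraMap (algebraMap k Ks).injective p
  obtain ⟨a, ha⟩ := IsPurelyInseparable.finrank_eq_pow Ks K p
  rw [ha] at hnd
  obtain ⟨j, -, rfl⟩ := (Nat.dvd_prime_pow Fact.out).mp ⟨d, hnd.symm⟩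
  exact ⟨j, by rw [← length_eq_of_ringEquiv (A := (Ks ⊗[k] k') ⊗[Ks] K) (B := K ⊗[k] k') e, hn, Nat.cast_pow]⟩

end Groth.Agent.H9Cyc
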