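import Groth.Prelude.Def_Cyc
import Groth.Agent.H9Cyc.InsepLen
import Groth.Agent.Codepth5.Field
import Groth.Agent.VarDim.Fibre
import Groth.Agent.Triage.CMBC
import Mathlib.AlgebraicGeometry.Morphisms.UniversallyInjective

/-! Pulling back cycles along the extension to the perfect closure. -/

set_option autoImplicit false
set_option linter.style.haveILetI false
set_option backward.isDefEq.respectTransparency false
set_option backward.isDefEq.respectTransparency.types false

universe u

open AlgebraicGeometry CategoryTheory CategoryTheory.Limits TensorProduct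

namespace Groth.Agent.H9Cyc

theorem length_stalk_Spec (A : Type u) [CommRing A] [IsLocalRing A] [Subsingleton (PrimeSpectrum A)]
    (q : Spec (CommRingCat.of A)) :
    Module.length ((Spec (CommRingCat.of A)).presheaf.stalk q) ((Spec (CommRingCat.of A)).presheaf.stalk q) =
      Module.length A A := by
  obtain rfl : q = IsLocalRing.closedPoint A :=
    @Subsingleton.elim _ (inferInstanceAs (Subsingleton (PrimeSpectrum A))) _ _
  refine (length_eq_of_ringEquiv
    (Spec.stalkIso (CommRingCat.of A) (IsLocalRing.closedPoint A)).commRingCatIsoToRingEquiv).trans ?_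
  exact (length_eq_of_ringEquiv (IsLocalization.atUnits A (IsLocalRing.maximalIdeal A).primeCompl
    (S := Localization.AtPrime (IsLocalRing.maximalIdeal A))
    (fun a ha => IsLocalRing.notMem_maximalIdeal.mp ha)).toRingEquiv).symm

theorem exists_length_stalk_eq_pow {k : Type u} [Field k] (p : ℕ) [Fact p.Prime] [CharP k p]
    (k' : Type u) [Field k'] [Algebra k k'] [IsPurelyInseparable k k']
    {X : Scheme.{u}} (f : X ⟶ Spec (CommRingCat.of k)) [LocallyOfFiniteType f]
    (x' : ↥(pullback f (Spec.map (CommRingCat.ofHom (algebraMap k k'))))) :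
    ∃ e : ℕ, Module.length ((pullback f (Spec.map (CommRingCat.ofHom (algebraMap k k')))).presheaf.stalk x')
      ((pullback f (Spec.map (CommRingCat.ofHom (algebraMap k k')))).presheaf.stalk x' ⧸
        Ideal.map ((pullback.fst f (Spec.map (CommRingCat.ofHom (algebraMap k k')))).stalkMap x').hom
          (IsLocalRing.maximalIdeal (X.presheaf.stalk (pullback.fst f _ x')))) = (p : ℕ∞) ^ e := by
  let φ := Spec.map (CommRingCat.ofHom (algebraMap k k'))
  let π := pullback.fst f φ
  let x := π x'
  obtain ⟨ψ, hψ⟩ := Spec.map_surjective (X.fromSpecResidueField x ≫ f)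
  let K := X.residueField x
  letI : Algebra k K := ψ.hom.toAlgebra
  haveI : Algebra.EssFiniteType k K := by
    obtain ⟨χ, hχ⟩ := Spec.map_surjective ((Spec (CommRingCat.of k)).fromSpecResidueField (f x))
    haveI : IsClosedImmersion (Spec.map χ) := by
      rw [hχ]
      refine IsClosedImmersion.of_isPreimmersion _ ?_
      rw [show Set.range ((Spec (CommRingCat.of k)).fromSpecResidueField (f x)) = Set.univ from
        Set.eq_univ_of_forall fun z => ⟨IsLocalRing.closedPoint _,
          @Subsingleton.elim _ (inferInstanceAs (Subsingleton (PrimeSpectrum k))) _ _⟩]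
      exact isClosed_univ
    have hs : Function.Surjective χ.hom := by
      have h := (Spec.map χ).app_surjective ⊤ (isAffineOpen_top _)
      have e : χ = (Scheme.ΓSpecIso _).inv ≫ (Spec.map χ).appTop ≫ (Scheme.ΓSpecIso _).hom := by
        rw [Scheme.ΓSpecIso_naturality, Iso.inv_hom_id_assoc]
      rw [e, CommRingCat.hom_comp, CommRingCat.hom_comp]
      exact ((ConcreteCategory.bijective_of_isIso (Scheme.ΓSpecIso _).hom).surjective.comp h).comp
        (ConcreteCategory.bijective_of_isIso (Scheme.ΓSpecIso _).inv).surjective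
    have he : ψ = χ ≫ f.residueFieldMap x := Spec.map_injective (by
      rw [Spec.map_comp, hψ, hχ, Scheme.Hom.SpecMap_residueFieldMap_fromSpecResidueField])
    have : ψ.hom.EssFiniteType := by
      rw [he, CommRingCat.hom_comp]
      exact RingHom.EssFiniteType.comp (RingHom.FiniteType.of_surjective _ hs).essFiniteType
        (Triage.CMBC.essFiniteType_residueFieldMap f x)
    exact this
  haveI := isLocalRing_tensor k K k'
  haveI := subsingleton_spec k K k'
  obtain ⟨e, he⟩ := exists_length_eq_pow k K k' p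
  refine ⟨e, ?_⟩
  let w := π.asFiber x'
  obtain ⟨E⟩ := Codepth5.nonempty_fibre_stalk_equiv π x' (π x') w (π.fiberι_asFiber x')
  have h1 : IsPullback (π.fiberToSpecResidueField x) (π.fiberι x) (X.fromSpecResidueField x) π :=
    (IsPullback.of_hasPullback _ _).flip
  have h2 : IsPullback (π.fiberToSpecResidueField x) (π.fiberι x ≫ pullback.snd f φ)
      (Spec.map (CommRingCat.ofHom (algebraMap k K))) φ := by
    rw [show Spec.map (CommRingCat.ofHom (algebraMap k K)) = X.fromSpecResidueField x ≫ f from hψ]
    exact h1.paste_vert (IsPullback.of_hasPullback f φ)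
  let i : π.fiber x ≅ Spec (CommRingCat.of (K ⊗[k] k')) := h2.isoPullback ≪≫ pullbackSpecIso k K k'
  rw [← he, ← length_stalk_Spec (K ⊗[k] k') (i.hom w),
    length_eq_of_ringEquiv (asIso (i.hom.stalkMap w)).commRingCatIsoToRingEquiv,
    ← length_eq_of_ringEquiv E]
  show Module.length ((pullback f φ).presheaf.stalk x') ((pullback f φ).presheaf.stalk x' ⧸ Codepth5.fibIdeal π x') = _
  exact Module.length_eq_of_surjective Ideal.Quotient.mk_surjective

theorem rdeg_eq_zero_of_universallyInjective {X Y : Scheme.{u}} (f : X ⟶ Y) [UniversallyInjective f]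
    (x : X) : VarDim.rdeg f x = 0 := by
  have h := ((tfae_universallyInjective f).out 0 2 rfl rfl).1 ‹UniversallyInjective f›
  letI := (f.residueFieldMap x).hom.toAlgebra
  haveI : IsPurelyInseparable (Y.residueField (f x)) (X.residueField x) := h.2 x
  exact trdeg_eq_zero

theorem exists_pullFun_pow_smul (k : Type u) [Field k] (p : ℕ) [Fact p.Prime] [CharP k p] (X : Scheme.{u})
    (f : X ⟶ Spec (CommRingCat.of k)) [LocallyOfFiniteType f] [QuasiCompact f] (δ : X → ℤ)
    (hδ : Cyc.DeltaCompat f δ (fun _ => 0))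
    (δ' : ↥(pullback f (Spec.map (CommRingCat.ofHom (PerfectClosure.of k p)))) → ℤ)
    (hδ' : Cyc.DeltaCompat (pullback.snd f (Spec.map (CommRingCat.ofHom (PerfectClosure.of k p)))) δ' (fun _ => 0))
    (r : ℤ) (β : AlgebraicCycle (pullback f (Spec.map (CommRingCat.ofHom (PerfectClosure.of k p)))) ℤ)
    (hβ : β ∈ Cyc.Zk _ δ' r) :
    ∃ (n : ℕ) (α : AlgebraicCycle X ℤ), α ∈ Cyc.Zk X δ r ∧ (p : ℤ) ^ n • ⇑β =
      Cyc.pullFun (pullback.fst f (Spec.map (CommRingCat.ofHom (PerfectClosure.of k p)))) δ' δ 0 ⇑α := by
  classical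
  let k' := PerfectClosure k p
  letI : Algebra k k' := (PerfectClosure.of k p).toAlgebra
  haveI : ExpChar k p := ExpChar.prime Fact.out
  haveI : IsPurelyInseparable k k' := (isPurelyInseparable_iff_pow_mem k p).mpr fun x =>
      (IsPRadical.pow_mem (PerfectClosure.of k p) p x).imp fun n ⟨r, hr⟩ => ⟨r, hr⟩
  let φ := Spec.map (CommRingCat.ofHom (PerfectClosure.of k p))
  haveI : UniversallyInjective φ := by
    refine ((tfae_universallyInjective _).out 0 1).2 fun L hL g₁ g₂ hg => ?_
    letI := hL
    obtain ⟨a, rfl⟩ := Spec.map_surjective g₁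
    obtain ⟨b, rfl⟩ := Spec.map_surjective g₂
    have hg' : CommRingCat.ofHom (PerfectClosure.of k p) ≫ a = CommRingCat.ofHom (PerfectClosure.of k p) ≫ b :=
      Spec.map_injective (by rw [Spec.map_comp, Spec.map_comp]; exact hg)
    congr 1
    ext1
    exact IsPurelyInseparable.injective_comp_algebraMap k k' L congr($(hg').hom)
  haveI : Surjective φ := ⟨fun x => ⟨IsLocalRing.closedPoint k',
    @Subsingleton.elim _ (inferInstanceAs (Subsingleton (PrimeSpectrum k))) _ _⟩⟩
  let π := pullback.fst f φ
  haveI : UniversallyInjective π := MorphismProperty.pullback_fst (P := @UniversallyInjective) _ _ ‹_›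
  haveI : Surjective π := MorphismProperty.pullback_fst (P := @Surjective) _ _ ‹_›
  haveI : CompactSpace ↥(pullback f φ) := QuasiCompact.compactSpace_of_compactSpace (pullback.snd f φ)
  choose e he using fun x' => exists_length_stalk_eq_pow (k := k) p k' f x'
  have hfin : (Function.support ⇑β).Finite := by
    choose t ht htf using fun z : ↥(pullback f φ) => β.supportLocallyFiniteWithinDomain' z trivial
    obtain ⟨s, -, hs⟩ := (isCompact_univ (X := ↥(pullback f φ))).elim_nhds_subcover t (fun z _ => ht z)
    refine (s.finite_toSet.biUnion fun z _ => htf z).subset fun y hy => ?_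
    obtain ⟨z, hz, hyz⟩ := Set.mem_iUnion₂.mp (hs (Set.mem_univ y))
    exact Set.mem_iUnion₂.mpr ⟨z, hz, hyz, hy⟩
  choose σ hσ using fun x : X => π.surjective x
  have hσ' : ∀ x', σ (π x') = x' := fun x' => π.injective (hσ _)
  have hδeq : ∀ x', δ' x' = δ (π x') := by
    intro x'
    obtain ⟨a, ha, hδa⟩ := hδ (π x')
    obtain ⟨b, hb, hδb⟩ := hδ' x'
    have h1 := VarDim.rdeg_comp π f x'
    have h2 := VarDim.rdeg_comp (pullback.snd f φ) φ x'
    rw [VarDim.rdeg_congr pullback.condition x', h2, rdeg_eq_zero_of_universallyInjective φ,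
      rdeg_eq_zero_of_universallyInjective π, zero_add, add_zero] at h1
    change VarDim.rdeg f (π x') = _ at ha
    change VarDim.rdeg (pullback.snd f φ) x' = _ at hb
    rw [ha, hb] at h1
    have : b = a := by exact_mod_cast h1
    rw [hδa, hδb, this]
  let N := hfin.toFinset.sup e
  let α0 : X → ℤ := fun x => (p : ℤ) ^ (N - e (σ x)) * β (σ x)
  have hsupp : Function.support α0 ⊆ π '' Function.support ⇑β := fun x hx =>
    ⟨σ x, fun h => hx (by simp [α0, h]), hσ x⟩
  let α : AlgebraicCycle X ℤ :=
    { toFun := α0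
      supportWithinDomain' := Set.subset_univ _
      supportLocallyFiniteWithinDomain' := fun z _ =>
        ⟨Set.univ, Filter.univ_mem, (hfin.image π).subset fun x hx => hsupp hx.2⟩ }
  refine ⟨N, α, fun x hx => ?_, ?_⟩
  · show α0 x = 0
    simp [α0, show β (σ x) = 0 from hβ _ (by rwa [hδeq, hσ])]
  · funext x'
    simp only [Cyc.pullFun, Pi.smul_apply, smul_eq_mul]
    rw [if_pos (by rw [add_zero]; exact hδeq x')]
    show _ = α0 (π x') * _
    simp only [α0, hσ']
    have hl := he x'
    erw [hl]
    rw [show ((p : ℕ∞)) ^ e x' = ((p ^ e x' : ℕ) : ℕ∞) by rw [Nat.cast_pow], ENat.toNat_natCast, Nat.cast_pow]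
    rcases eq_or_ne (β x') 0 with h0 | h0
    · simp [h0]
    · have hle : e x' ≤ N := Finset.le_sup (hfin.mem_toFinset.mpr h0)
      rw [mul_comm ((p : ℤ) ^ (N - e x')), mul_assoc, ← pow_add, Nat.sub_add_cancel hle, mul_comm]

end Groth.Agent.H9Cyc
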