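import Groth.Agent.H9Cyc.LimCyc
import Groth.Agent.H23.FlatClass
import Groth.Agent.CycLib.RatSum
import Groth.Agent.S6496

/-! Rational equivalence descends along limits of schemes. -/

set_option autoImplicit false
set_option linter.style.haveILetI false
set_option backward.isDefEq.respectTransparency false
set_option backward.isDefEq.respectTransparency.types false

universe u

open AlgebraicGeometry CategoryTheory CategoryTheory.Limits TopologicalSpace

namespace Groth.Agent.H9Cyc.Lim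

open Groth.Agent H23.FlatShift H23.DivPull

theorem residueFieldMap_range_mono {X Y Z : Scheme.{u}} {h : X ⟶ Z} (f : X ⟶ Y) (g : Y ⟶ Z) (e : f ≫ g = h)
    {x : X} {r : X.residueField x} (hr : r ∈ Set.range (h.residueFieldMap x).hom) :
    r ∈ Set.range (f.residueFieldMap x).hom := by
  subst e
  obtain ⟨s, rfl⟩ := hr
  exact ⟨g.residueFieldMap (f x) s, congr(($(Scheme.residueFieldMap_comp f g x)).hom s).symm⟩

theorem residueFieldMap_evaluation {X Y : Scheme.{u}} (π : X ⟶ Y) {U : Y.Opens} {W : X.Opens} (h : W ≤ π ⁻¹ᵁ U)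
    (x : X) (hx : x ∈ W) (t : Γ(Y, U)) :
    (π.residueFieldMap x).hom (Y.evaluation U (π x) (h hx) t) = X.evaluation W x hx (π.appLE U W h t) := by
  show (π.residueFieldMap x).hom ((Y.residue (π x)).hom (Y.presheaf.germ U (π x) (h hx) t)) = _
  refine (congrArg (fun m : Y.presheaf.stalk (π x) ⟶ X.residueField x => m.hom (Y.presheaf.germ U (π x) (h hx) t))
    (Scheme.residue_residueFieldMap π x)).trans ?_
  show (X.residue x).hom ((π.stalkMap x).hom (Y.presheaf.germ U (π x) (h hx) t)) = _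
  rw [Scheme.Hom.germ_stalkMap_apply, Scheme.Hom.appLE, CommRingCat.comp_apply]
  show _ = (X.residue x).hom (X.presheaf.germ W x hx _)
  rw [TopCat.Presheaf.germ_res_apply]

section

variable {I : Type u} [Category.{u} I] [IsCofiltered I] (D : I ⥤ Scheme.{u}) (c : Cone D) (hc : IsLimit c)
  [∀ {i j} (f : i ⟶ j), IsAffineHom (D.map f)]

include hc in
theorem exists_residue_descent (i : I) (x : c.pt) (z : c.pt.residueField x) :
    ∃ (j : I) (_ : j ⟶ i), ∀ (k : I) (_ : k ⟶ j), z ∈ Set.range (Scheme.Hom.residueFieldMap (c.π.app k) x).hom := by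
  obtain ⟨V, hV, hxV, -⟩ := exists_isAffineOpen_mem_and_subset (x := c.π.app i x) (U := ⊤) trivial
  haveI : IsAffineHom (c.π.app i) := isAffineHom_π_app D c hc i
  obtain ⟨a, s, -, rfl⟩ := CycLib.exists_eval_div (hV.preimage (c.π.app i)) (show x ∈ c.π.app i ⁻¹ᵁ V from hxV) z
  obtain ⟨j₁, f₁, h₁, t₁, e₁⟩ := exists_section D c hc V hV a
  obtain ⟨j₂, f₂, h₂, t₂, e₂⟩ := exists_section D c hc V hV s
  obtain ⟨j, g₁, g₂, -⟩ := IsCofilteredOrEmpty.cone_objs j₁ j₂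
  refine ⟨j, g₁ ≫ f₁, fun k g => ?_⟩
  obtain ⟨y₁, hy₁⟩ := residueFieldMap_range_mono (c.π.app k) (D.map (g ≫ g₁)) (c.w (g ≫ g₁))
    ⟨_, residueFieldMap_evaluation (c.π.app j₁) h₁ x hxV t₁⟩
  obtain ⟨y₂, hy₂⟩ := residueFieldMap_range_mono (c.π.app k) (D.map (g ≫ g₂)) (c.w (g ≫ g₂))
    ⟨_, residueFieldMap_evaluation (c.π.app j₂) h₂ x hxV t₂⟩
  refine ⟨y₁ / y₂, ?_⟩
  rw [map_div₀, hy₁, hy₂]
  exact congrArg₂ (· / ·) (congrArg (c.pt.evaluation _ x hxV).hom e₁) (congrArg (c.pt.evaluation _ x hxV).hom e₂)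

end

theorem pullFun_divFun_single {X X' : Scheme.{u}} (p : X' ⟶ X) [Flat p] [IsLocallyNoetherian X] [IsLocallyNoetherian X']
    {δ : X → ℤ} {δ' : X' → ℤ} (hc : HasShift p δ' δ 0) (hd : Cyc.IsDimFun X δ) (hd' : Cyc.IsDimFun X' δ') {x : X'}
    (hgood : Good p x) (huniq : ∀ w, p w = p x → x ⤳ w) {g : X.residueField (p x)} (hg : g ≠ 0) (y : X') :
    Cyc.pullFun p δ' δ 0 (Cyc.divFun δ (p x) g) y = Cyc.divFun δ' x ((p.residueFieldMap x).hom g) y := by
  have hmax : FibDim.FibMax p x := fun w hw e => (hw.antisymm (huniq w e)).eq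
  have hset : {z : X' | p z = p x ∧ FibDim.FibMax p z} = {x} := Set.ext fun z => by
    refine ⟨fun hz => ?_, fun hz => ?_⟩
    · exact (hz.2 x (huniq z hz.1) hz.1.symm).symm
    · rw [Set.mem_singleton_iff] at hz; subst hz; exact ⟨rfl, hmax⟩
  rw [pullFun_divFun p hc hd hd' hg y, hset, finsum_mem_singleton, term, dif_pos rfl, pullRes_rfl]
  have h1 : H23.FiniteFibreSum.fibreLen p x = 1 := by
    show Module.length _ _ = 1
    rw [Good] at hgood
    rw [hgood]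
    exact length_quot_maximal x
  rw [h1]
  simp

theorem pullFun_sum {X X' : Scheme.{u}} (p : X' ⟶ X) (δ' : X' → ℤ) (δ : X → ℤ) (r : ℤ) {ι : Type*} [Fintype ι]
    (F : ι → X → ℤ) (y : X') :
    Cyc.pullFun p δ' δ r (fun x => ∑ l, F l x) y = ∑ l, Cyc.pullFun p δ' δ r (F l) y := by
  simp only [Cyc.pullFun]
  split_ifs
  · rw [Finset.sum_mul]
  · simp

theorem descend (I : Type u) [Preorder I] [IsDirected I (fun a b => a ≤ b)] [Nonempty I] (D : Iᵒᵖ ⥤ Scheme.{u})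
    (c : Limits.Cone D) (hc : Limits.IsLimit c) (haff : ∀ (i j : Iᵒᵖ) (f : i ⟶ j), IsAffineHom (D.map f))
    (hflat : ∀ (i j : Iᵒᵖ) (f : i ⟶ j), Flat (D.map f)) (hqc : ∀ i, CompactSpace ↥(D.obj i))
    (δ : (i : Iᵒᵖ) → ↥(D.obj i) → ℤ) (δ' : ↥c.pt → ℤ) (hset : ∀ i, Cyc.IsSetup (D.obj i) (δ i))
    (hset' : Cyc.IsSetup c.pt δ')
    (hshift : ∀ (i j : Iᵒᵖ) (f : i ⟶ j) (x : ↥(D.obj i)), (∀ y, D.map f y = D.map f x → y ⤳ x → y = x) → δ i x = δ j (D.map f x))
    (hflat' : ∀ i, Flat (c.π.app i))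
    (hshift' : ∀ (i : Iᵒᵖ) (x : ↥c.pt), (∀ y, c.π.app i y = c.π.app i x → y ⤳ x → y = x) → δ' x = δ i (c.π.app i x))
    (k : ℤ) (i : Iᵒᵖ) (α : AlgebraicCycle (D.obj i) ℤ) (hα : α ∈ Cyc.Zk (D.obj i) (δ i) k) (α' : AlgebraicCycle c.pt ℤ)
    (hα' : ⇑α' = Cyc.pullFun (c.π.app i) δ' (δ i) 0 ⇑α) (h0 : Cyc.RatEquivZero δ' k α') :
    ∃ (j : Iᵒᵖ) (f : j ⟶ i) (αj : AlgebraicCycle (D.obj j) ℤ), ⇑αj = Cyc.pullFun (D.map f) (δ j) (δ i) 0 ⇑α ∧
      Cyc.RatEquivZero (δ j) k αj := by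
  classical
  haveI : ∀ {i j : Iᵒᵖ} (f : i ⟶ j), IsAffineHom (D.map f) := fun f => haff _ _ f
  haveI : ∀ i, CompactSpace (D.obj i) := hqc
  haveI : IsLocallyNoetherian c.pt := hset'.1
  haveI : ∀ i, IsLocallyNoetherian (D.obj i) := fun i => (hset i).1
  haveI : CompactSpace c.pt := Scheme.compactSpace_of_isLimit D c hc
  have hS : ∀ {a b : Iᵒᵖ} (f : a ⟶ b), HasShift (D.map f) (δ a) (δ b) 0 := fun f x hx =>
    (hshift _ _ f x hx).trans (add_zero _).symm
  have hS' : ∀ a : Iᵒᵖ, HasShift (c.π.app a : c.pt ⟶ D.obj a) δ' (δ a) 0 := fun a x hx =>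
    (hshift' a x hx).trans (add_zero _).symm
  have hcomp : ∀ {a b : Iᵒᵖ} (f : a ⟶ b) (F : D.obj b → ℤ),
      Cyc.pullFun (c.π.app a : c.pt ⟶ D.obj a) δ' (δ a) 0 (Cyc.pullFun (D.map f) (δ a) (δ b) 0 F) =
        Cyc.pullFun (c.π.app b : c.pt ⟶ D.obj b) δ' (δ b) 0 F := fun {a b} f F => by
    haveI := hflat' a
    have := pullFun_comp_of_le (c.π.app a : c.pt ⟶ D.obj a) (D.map f) δ' (δ a) (δ b) (r := 0) (s := 0)
      (fun x => (hS' a).le hset'.2.2 x) (fun y => (hS f).le (hset a).2.2 y) F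
    rw [add_zero] at this
    rw [this]
    have hw : (c.π.app a : c.pt ⟶ D.obj a) ≫ D.map f = c.π.app b := c.w f
    rw [hw]
  obtain ⟨ι, ξ, g, hξ, hg, hloc, hsum⟩ := h0
  haveI : Finite ι := by
    choose U hUo hxU hfin using hloc
    obtain ⟨S, hcov⟩ := (isCompact_univ (X := c.pt)).elim_finite_subcover U hUo
      fun x _ => Set.mem_iUnion.2 ⟨x, hxU x⟩
    refine Set.finite_univ_iff.1 ((S.finite_toSet.biUnion fun x _ => hfin x).subset fun l _ => ?_)
    obtain ⟨x, hx, hl⟩ := Set.mem_iUnion₂.1 (hcov (Set.mem_univ (ξ l)))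
    exact Set.mem_biUnion hx ⟨ξ l, subset_closure rfl, hl⟩
  haveI := Fintype.ofFinite ι
  choose lev hlev using fun l => exists_level D c hc (ξ l)
  choose res fres hres using fun l => exists_residue_descent D c hc i (ξ l) (g l)
  obtain ⟨a, ha⟩ := IsCofiltered.inf_objs_exists
    (insert i (Finset.univ.image lev ∪ Finset.univ.image res))
  obtain ⟨f⟩ := ha (Finset.mem_insert_self i _)
  have hl : ∀ l, Good (c.π.app a : c.pt ⟶ D.obj a) (ξ l) ∧
      ∀ w, c.π.app a w = c.π.app a (ξ l) → ξ l ⤳ w := fun l =>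
    hlev l a (ha (Finset.mem_insert_of_mem (Finset.mem_union_left _ (Finset.mem_image_of_mem _ (Finset.mem_univ l))))).some
  choose r hr using fun l => hres l a
    (ha (Finset.mem_insert_of_mem (Finset.mem_union_right _ (Finset.mem_image_of_mem _ (Finset.mem_univ l))))).some
  let π : c.pt ⟶ D.obj a := c.π.app a
  have hr' : ∀ l, (π.residueFieldMap (ξ l)).hom (r l) = g l := hr
  haveI : Flat π := hflat' a
  have hr0 : ∀ l, r l ≠ 0 := fun l h => hg l (by rw [← hr l, h, map_zero])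
  have hδ : ∀ l, δ a (π (ξ l)) = k + 1 := fun l => by
    refine Eq.trans ?_ (hξ l)
    exact (hshift' a (ξ l) fun w hw hwx => (hwx.antisymm ((hl l).2 w hw)).eq).symm
  have hlocG : ∀ x : D.obj a, ∃ U : Set (D.obj a), IsOpen U ∧ x ∈ U ∧
      {l | (closure {π (ξ l)} ∩ U).Nonempty}.Finite :=
    fun x => ⟨Set.univ, isOpen_univ, trivial, Set.toFinite _⟩
  let G : AlgebraicCycle (D.obj a) ℤ := CycLib.sumDiv (hset a).2.2 (fun l => π (ξ l)) r hr0 hlocG
  have hG0 : Cyc.RatEquivZero (δ a) k G := ⟨ι, fun l => π (ξ l), r, hδ, hr0, hlocG, fun x => rfl⟩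
  have hpullG : Cyc.pullFun π δ' (δ a) 0 ⇑G = ⇑α' := funext fun y => by
    rw [hsum y, finsum_eq_sum_of_fintype]
    rw [show (⇑G : D.obj a → ℤ) = fun x => ∑ l, Cyc.divFun (δ a) (π (ξ l)) (r l) x from
      funext fun x => finsum_eq_sum_of_fintype _, pullFun_sum]
    refine Finset.sum_congr rfl fun l _ => ?_
    rw [pullFun_divFun_single π (hS' a) (hset a).2.2 hset'.2.2 (hl l).1 (hl l).2 (hr0 l) y, hr' l]
  haveI := hflat _ _ f
  let αa : AlgebraicCycle (D.obj a) ℤ := H23.FlatClass.pullCycle (hS f) (hset a).2.2 α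
  let γ : AlgebraicCycle (D.obj a) ℤ := αa - G
  have hγ : γ ∈ Cyc.Zk (D.obj a) (δ a) k := fun x hx => by
    have h1 : αa x = 0 := H23.FlatClass.pullCycle_mem (hS f) (hset a).2.2 hα (add_zero k).symm x hx
    have h2 : G x = 0 := finsum_eq_zero_of_forall_eq_zero fun l =>
      CycLib.divFun_eq_zero_of_delta (δ a) (r l) (show δ a x + 1 ≠ δ a (π (ξ l)) by rw [hδ]; omega)
    simp [γ, Function.locallyFinsuppWithin.coe_sub, h1, h2]
  have hγ0 : Cyc.pullFun π δ' (δ a) 0 ⇑γ = 0 := funext fun y => by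
    have e1 : Cyc.pullFun π δ' (δ a) 0 ⇑αa y = α' y := by
      rw [hα']
      exact congrFun (hcomp f ⇑α) y
    have e2 := congrFun hpullG y
    simp only [Cyc.pullFun, γ, Function.locallyFinsuppWithin.coe_sub, Pi.sub_apply, Pi.zero_apply] at e1 e2 ⊢
    split_ifs with hy
    · rw [if_pos hy] at e1 e2
      rw [sub_mul, e1, e2, sub_self]
    · rfl
  obtain ⟨b, f', hf'⟩ := S6496.result I D c hc haff hflat hqc δ δ' hset hset' hshift hflat' hshift' k a γ hγ hγ0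
  haveI := hflat _ _ f'
  haveI := hflat _ _ (f' ≫ f)
  refine ⟨b, f' ≫ f, H23.FlatClass.pullCycle (hS (f' ≫ f)) (hset b).2.2 α, rfl, ?_⟩
  have key : Cyc.pullFun (D.map (f' ≫ f)) (δ b) (δ i) 0 ⇑α = Cyc.pullFun (D.map f') (δ b) (δ a) 0 ⇑G := by
    have hc1 := pullFun_comp_of_le (D.map f') (D.map f) (δ b) (δ a) (δ i) (r := 0) (s := 0)
      (fun x => (hS f').le (hset b).2.2 x) (fun y => (hS f).le (hset a).2.2 y) ⇑α
    rw [add_zero, ← D.map_comp] at hc1
    rw [← hc1]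
    funext y
    show Cyc.pullFun (D.map f') (δ b) (δ a) 0 (⇑αa) y = Cyc.pullFun (D.map f') (δ b) (δ a) 0 (⇑G) y
    have e := congrFun hf' y
    simp only [Cyc.pullFun, γ, Function.locallyFinsuppWithin.coe_sub, Pi.sub_apply, Pi.zero_apply] at e ⊢
    split_ifs with hy
    · rw [if_pos hy, sub_mul, sub_eq_zero] at e
      exact e
    · rfl
  have := ratEquivZero_pull (D.map f') (hS f') (hset a).2.2 (hset b).2.2 hG0
    (H23.FlatClass.pullCycle (hS (f' ≫ f)) (hset b).2.2 α) key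
  rwa [add_zero] at this

end Groth.Agent.H9Cyc.Lim
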