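import Groth.Agent.H9Cyc.InsepLen
import Mathlib.RingTheory.Localization.BaseChange
import Mathlib.RingTheory.Ideal.GoingDown
import Mathlib.RingTheory.Flat.FaithfullyFlat.Basic
import Mathlib.RingTheory.Ideal.MinimalPrime.Localization
import Mathlib.RingTheory.LocalProperties.Reduced

set_option autoImplicit false
set_option linter.style.haveILetI false
set_option backward.isDefEq.respectTransparency false
set_option backward.isDefEq.respectTransparency.types false
universe u
open TensorProduct

namespace Groth.Agent.H9Cyc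

theorem length_localization_pureInsep (B E L : Type u) [CommRing B] [IsReduced B] [Field E] [Field L]
    [Algebra E B] [Algebra E L] [IsPurelyInseparable E L] [Module.Finite E L] (p : ℕ) [ExpChar E p]
    (q : Ideal (B ⊗[E] L)) [q.IsPrime] (hq : q ∈ minimalPrimes (B ⊗[E] L)) :
    ∃ n : ℕ, Module.length (Localization.AtPrime q) (Localization.AtPrime q) = (p ^ n : ℕ) := by
  set A := B ⊗[E] L
  let p0 : Ideal B := q.comap (algebraMap B A)
  haveI hp0 : p0.IsPrime := Ideal.comap_isPrime _ q
  have hp0min : p0 ∈ minimalPrimes B := by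
    refine ⟨⟨inferInstance, bot_le⟩, fun J hJ hJle => ?_⟩
    haveI := hJ.1
    obtain ⟨Q, hQle, hQp, hQ⟩ := Ideal.exists_ideal_le_liesOver_of_le (S := A) (p := J) (q := p0) q
      (hJle : J ≤ p0)
    have : Q = q := le_antisymm hQle (hq.2 ⟨hQp, bot_le⟩ hQle)
    subst this
    exact hQ.over.symm.le
  let F := Localization.AtPrime p0
  haveI : IsReduced F := isReduced_localizationPreserves p0.primeCompl F inferInstance
  letI : Field F := ((IsLocalRing.isField_iff_maximalIdeal_eq (R := F)).mpr (by
    refine le_bot_iff.mp ((le_sInf fun J hJ => ?_).trans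
      ((nilradical_eq_sInf F).symm.trans (nilradical_eq_zero _)).le)
    haveI : Ideal.IsPrime J := hJ
    have h1 : J.comap (algebraMap B F) ≤ p0 := fun b hb => by
      by_contra h
      exact ‹J.IsPrime›.ne_top (J.eq_top_of_isUnit_mem hb (IsLocalization.map_units F (⟨b, h⟩ : p0.primeCompl)))
    have h2 : J.comap (algebraMap B F) = p0 := le_antisymm h1 (hp0min.2 ⟨inferInstance, bot_le⟩ h1)
    rw [← IsLocalization.map_comap p0.primeCompl F J, show J.under B = p0 from h2, Localization.AtPrime.map_eq_maximalIdeal])).toField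
  haveI : IsLocalRing (F ⊗[E] L) := isLocalRing_tensor E F L
  let C := A ⊗[B] F
  let e : C ≃+* F ⊗[E] L :=
    (Algebra.TensorProduct.comm B A F).toRingEquiv.trans
      (Algebra.TensorProduct.cancelBaseChange E B F F L).toRingEquiv
  haveI : IsLocalRing C := e.symm.isLocalRing
  let M := Algebra.algebraMapSubmonoid A p0.primeCompl
  haveI hC : IsLocalization M C := IsLocalization.tensor F p0.primeCompl (S := A)
  have hMle : M ≤ q.primeCompl := by
    rintro _ ⟨b, hb, rfl⟩
    exact hb
  have hdis : Disjoint (M : Set A) (q : Set A) := Set.disjoint_left.2 fun x hx => hMle hx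
  have hqC : (q.map (algebraMap A C)).IsPrime := IsLocalization.isPrime_of_isPrime_disjoint M C q inferInstance hdis
  have hmax : (IsLocalRing.maximalIdeal C).comap (algebraMap A C) = q := by
    obtain ⟨h1, h2⟩ := (IsLocalization.isPrime_iff_isPrime_disjoint M C (IsLocalRing.maximalIdeal C)).1 inferInstance
    set q' := (IsLocalRing.maximalIdeal C).comap (algebraMap A C) with hq'
    haveI := h1
    have hp0' : q'.comap (algebraMap B A) = p0 := by
      refine le_antisymm (fun b hb => ?_) (hp0min.2 ⟨inferInstance, bot_le⟩ (fun b hb => ?_))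
      all_goals
        by_contra hb'
        exact Set.disjoint_left.1 h2 ⟨b, hb', rfl⟩ hb
    have hinj := (PrimeSpectrum.isHomeomorph_comap_of_isPurelyInseparable E L B).bijective.injective
    have := @hinj ⟨q', h1⟩ ⟨q, ‹_›⟩ (PrimeSpectrum.ext hp0')
    exact congrArg PrimeSpectrum.asIdeal this
  haveI : IsLocalization.AtPrime C q := by
    refine IsLocalization.of_le M q.primeCompl hMle fun r hr => ?_
    by_contra hu
    refine hr ?_
    rw [← hmax]
    exact hu
  have hlen : Module.length (Localization.AtPrime q) (Localization.AtPrime q) = Module.length (F ⊗[E] L) (F ⊗[E] L) :=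
    length_eq_of_ringEquiv ((IsLocalization.algEquiv q.primeCompl (Localization.AtPrime q) C).toRingEquiv.trans e)
  obtain ⟨n, d, hn, hnd⟩ := length_dvd_finrank (L := E) (E := L) (F := F)
  obtain ⟨a, ha⟩ := IsPurelyInseparable.finrank_eq_pow E L p
  rw [ha] at hnd
  rcases ‹ExpChar E p› with _ | ⟨hp⟩
  · refine ⟨0, ?_⟩
    rw [one_pow] at hnd
    rw [hlen, hn, Nat.eq_one_of_mul_eq_one_right hnd]
    simp
  · obtain ⟨j, -, rfl⟩ := (Nat.dvd_prime_pow hp).mp ⟨d, hnd.symm⟩
    exact ⟨j, by rw [hlen, hn]⟩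

theorem length_localization_tensor (k K L : Type u) [Field k] [Field K] [Field L] [Algebra k K] [Algebra k L]
    [Algebra.EssFiniteType k L] (p : ℕ) [ExpChar k p] (q : Ideal (K ⊗[k] L)) [q.IsPrime]
    (hq : q ∈ minimalPrimes (K ⊗[k] L)) :
    ∃ n : ℕ, Module.length (Localization.AtPrime q) (Localization.AtPrime q) = (p ^ n : ℕ) := by
  obtain ⟨t, ht⟩ := exists_isTranscendenceBasis k L
  let P := IntermediateField.adjoin k (Set.range (Subtype.val : t → L))
  haveI : Algebra.IsAlgebraic P L := ht.isAlgebraic_field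
  haveI : Algebra.EssFiniteType P L := Algebra.EssFiniteType.of_comp k P L
  haveI : Module.Finite P L := Algebra.finite_of_essFiniteType_of_isAlgebraic
  haveI : IsDomain (P ⊗[k] K) := AssLib.isDomain_tensor_adjoin (K := K) ht.1
  let Ls := separableClosure P L
  haveI : IsScalarTower k Ls L := IsScalarTower.of_algebraMap_eq fun _ => rfl
  haveI : IsReduced (Ls ⊗[k] K) := GeomField.isReduced_tensor_of_separable_tower K P Ls
  haveI : ExpChar Ls p := expChar_of_injective_algebraMap (algebraMap k Ls).injective p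
  let φ : (Ls ⊗[k] K) ⊗[Ls] L →+* K ⊗[k] L :=
    (Algebra.TensorProduct.comm k L K).toAlgHom.toRingHom.comp
      ((Algebra.TensorProduct.cancelBaseChange k Ls L L K).toAlgHom.toRingHom.comp
        (Algebra.TensorProduct.comm Ls (Ls ⊗[k] K) L).toAlgHom.toRingHom)
  let e : (Ls ⊗[k] K) ⊗[Ls] L ≃+* K ⊗[k] L := RingEquiv.ofBijective φ
    ((Algebra.TensorProduct.comm k L K).bijective.comp
      ((Algebra.TensorProduct.cancelBaseChange k Ls L L K).bijective.comp
        (Algebra.TensorProduct.comm Ls (Ls ⊗[k] K) L).bijective))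
  let q' := q.comap φ
  let ψ : K ⊗[k] L →+* (Ls ⊗[k] K) ⊗[Ls] L := RingHomClass.toRingHom e.symm
  have hψ : ∀ x, φ (ψ x) = x := fun x => e.apply_symm_apply x
  have hψ' : ∀ x, ψ (φ x) = x := fun x => e.symm_apply_apply x
  haveI : q'.IsPrime := Ideal.comap_isPrime _ q
  have hq' : q' ∈ minimalPrimes ((Ls ⊗[k] K) ⊗[Ls] L) := by
    refine ⟨⟨inferInstance, bot_le⟩, fun J hJ hle => ?_⟩
    haveI := hJ.1
    have h : J.comap ψ ≤ q := fun x hx => by
      have : φ (ψ x) ∈ q := hle hx
      rwa [hψ] at this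
    have h' := hq.2 ⟨Ideal.comap_isPrime _ J, bot_le⟩ h
    intro x hx
    have : ψ (φ x) ∈ J := h' hx
    rwa [hψ'] at this
  obtain ⟨n, hn⟩ := length_localization_pureInsep (Ls ⊗[k] K) Ls L p q' hq'
  refine ⟨n, hn ▸ (length_eq_of_ringEquiv ?_).symm⟩
  refine IsLocalization.ringEquivOfRingEquiv (R := (Ls ⊗[k] K) ⊗[Ls] L) (P := K ⊗[k] L) (M := q'.primeCompl) (T := q.primeCompl) _ _ e ?_
  ext x
  simp only [Submonoid.mem_map]
  constructor
  · rintro ⟨y, hy, rfl⟩; exact hy
  · intro hx; exact ⟨ψ x, fun hc => hx (hψ x ▸ (hc : φ (ψ x) ∈ q)), hψ x⟩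

end Groth.Agent.H9Cyc
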